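import Cfsg.Agent.EqLemmas
import Cfsg.Agent.Lib.Chev.DataG2
import Cfsg.Agent.Lib.ChevBN.Torus
import Cfsg.Agent.Lib.Unitary.Small32

/-!
# The six dimensional representation of `G₂(4)`

Over the field with four elements the adjoint module of `chevG2` is, up to scalars, a space of `6 × 6`
matrices of the symplectic Lie algebra, and every root element is a conjugation by a symplectic matrix.

* `iota`: the embedding of the adjoint module
* `pairs`: the pairs `(A, M)` with `A` symplectic and `M` induced by conjugation with `A`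
* `rho`: the representation `chevG2.group GF4 →* GL₆`, `rho_injective`
* `rho_gen`: its values at root elements
-/

set_option autoImplicit false

namespace Cfsg.Agent.G2Four

open Cfsg.Lie Cfsg.Lie.ChevalleyDatum Cfsg.Agent.Chev Cfsg.Agent.ChevBN
open Cfsg.Agent.Unitary (GF4)
open scoped Matrix

/-- Square matrices of size six. -/
abbrev M6 : Type := Matrix (Fin 6) (Fin 6) GF4

/-- The adjoint module. -/
abbrev Adj : Type := chevG2.Idx → GF4

/-- A coordinate. -/
abbrev rt (v : Adj) (r : Fin 12) : GF4 := v (Sum.inr r)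

/-- A coordinate of the Cartan part. -/
abbrev ct (v : Adj) (i : Fin 2) : GF4 := v (Sum.inl i)

/-- The matrix of a vector of the adjoint module. -/
def iotaFun (v : Adj) : M6 :=
  !![ct v 1, rt v 5, rt v 10, 0, rt v 9, rt v 3;
     rt v 6, ct v 0 + ct v 1, rt v 11, rt v 9, 0, rt v 4;
     rt v 1, rt v 0, ct v 0, rt v 3, rt v 4, 0;
     0, rt v 2, rt v 8, ct v 1, rt v 6, rt v 1;
     rt v 2, 0, rt v 7, rt v 5, ct v 0 + ct v 1, rt v 0;
     rt v 8, rt v 7, 0, rt v 10, rt v 11, ct v 0]

/-- The linear embedding. -/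
def iota : Adj →ₗ[GF4] M6 where
  toFun := iotaFun
  map_add' u v := by
    ext i j
    fin_cases i <;> fin_cases j <;> simp [iotaFun, add_comm, add_left_comm, add_assoc]
  map_smul' c v := by
    ext i j
    fin_cases i <;> fin_cases j <;> simp [iotaFun, mul_add]

theorem iota_apply (v : Adj) : iota v = iotaFun v := rfl

/-- The embedding is injective modulo scalars. -/
theorem eq_zero_of_iota_scalar {v : Adj} {c : GF4} (h : iota v = c • (1 : M6)) : v = 0 := by
  have e := fun i j => congrFun (congrFun h i) j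
  simp only [iota_apply, iotaFun, Matrix.smul_apply, Matrix.one_apply, smul_eq_mul, mul_ite, mul_one,
    mul_zero] at e
  have h0 : ct v 1 = c := e 0 0
  have h1 : ct v 0 + ct v 1 = c := e 1 1
  have h2 : ct v 0 = c := e 2 2
  have hc : c = 0 := by rwa [h2, h0, add_eq_left] at h1
  have hr : ∀ r : Fin 12, rt v r = 0 := by
    intro r
    fin_cases r
    · exact e 2 1
    · exact e 2 0
    · exact e 3 1
    · exact e 0 5
    · exact e 1 5
    · exact e 0 1
    · exact e 1 0
    · exact e 4 2
    · exact e 3 2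
    · exact e 0 4
    · exact e 0 2
    · exact e 1 2
  funext a
  rcases a with i | r
  · fin_cases i
    · exact h2.trans hc
    · exact h0.trans hc
  · exact hr r

/-- The symplectic form. -/
def Jf : M6 := Matrix.of fun i j => if i.val + 3 = j.val ∨ j.val + 3 = i.val then 1 else 0

/-- Conjugation by `A` induces `M` on the adjoint module. -/
def Induces (A : M6) (M : Matrix chevG2.Idx chevG2.Idx GF4) : Prop :=
  ∀ v, ∃ c : GF4, A * iota v = (iota (M *ᵥ v) + c • 1) * A

theorem induces_one : Induces 1 1 := fun v => ⟨0, by simp⟩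

theorem induces_mul {A B : M6} {M N : Matrix chevG2.Idx chevG2.Idx GF4}
    (hA : Induces A M) (hB : Induces B N) : Induces (A * B) (M * N) := by
  intro v
  obtain ⟨c, hc⟩ := hB v
  obtain ⟨d, hd⟩ := hA (N *ᵥ v)
  refine ⟨d + c, ?_⟩
  rw [mul_assoc, hc, ← mul_assoc, mul_add, hd, ← Matrix.mulVec_mulVec]
  simp only [add_smul, add_mul, mul_assoc, mul_smul_comm, smul_mul_assoc, one_mul, mul_one]
  abel

theorem induces_inv {A : GL (Fin 6) GF4} {M : GL chevG2.Idx GF4}
    (h : Induces (A : M6) (M : Matrix chevG2.Idx chevG2.Idx GF4)) :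
    Induces ((A⁻¹ : GL (Fin 6) GF4) : M6) ((M⁻¹ : GL chevG2.Idx GF4) : Matrix chevG2.Idx chevG2.Idx GF4) := by
  intro v
  obtain ⟨c, hc⟩ := h (((M⁻¹ : GL chevG2.Idx GF4) : Matrix chevG2.Idx chevG2.Idx GF4) *ᵥ v)
  refine ⟨-c, ?_⟩
  rw [Matrix.mulVec_mulVec, Units.mul_inv, Matrix.one_mulVec] at hc
  have e := congrArg (fun X : M6 => ((A⁻¹ : GL (Fin 6) GF4) : M6) * X * ((A⁻¹ : GL (Fin 6) GF4) : M6)) hc
  simp only [add_mul, mul_add, smul_mul_assoc, mul_smul_comm, one_mul, mul_assoc, Units.mul_inv,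
    mul_one] at e
  rw [← mul_assoc ((A⁻¹ : GL (Fin 6) GF4) : M6) (A : M6), Units.inv_mul, one_mul] at e
  simp only [add_mul, neg_smul, neg_mul, smul_mul_assoc, one_mul]
  rw [e]
  abel

/-- Pairs of a symplectic matrix and the map it induces. -/
def pairs : Subgroup (GL (Fin 6) GF4 × GL chevG2.Idx GF4) where
  carrier := {p | (p.1 : M6)ᵀ * Jf * (p.1 : M6) = Jf ∧
    Induces (p.1 : M6) (p.2 : Matrix chevG2.Idx chevG2.Idx GF4)}
  one_mem' := ⟨by simp, induces_one⟩
  mul_mem' {p q} hp hq := by
    refine ⟨?_, induces_mul hp.2 hq.2⟩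
    simp only [Prod.fst_mul, Units.val_mul, Matrix.transpose_mul]
    rw [show (q.1 : M6)ᵀ * (p.1 : M6)ᵀ * Jf * ((p.1 : M6) * (q.1 : M6)) =
      (q.1 : M6)ᵀ * ((p.1 : M6)ᵀ * Jf * (p.1 : M6)) * (q.1 : M6) by simp only [mul_assoc], hp.1, hq.1]
  inv_mem' {p} hp := by
    refine ⟨?_, induces_inv hp.2⟩
    conv_lhs => rw [← hp.1]
    simp only [Prod.fst_inv, mul_assoc, Units.mul_inv, mul_one]
    rw [← mul_assoc, ← Matrix.transpose_mul, Units.mul_inv, Matrix.transpose_one, one_mul]

/-! ### The kernel of the second projection -/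

/-- A product with the six by six matrices unrolled. -/
def mm (A B : M6) : M6 := Matrix.of fun i j =>
  A i 0 * B 0 j + A i 1 * B 1 j + A i 2 * B 2 j + A i 3 * B 3 j + A i 4 * B 4 j + A i 5 * B 5 j

theorem mm_eq (A B : M6) : mm A B = A * B := by
  ext i j
  simp [mm, Matrix.mul_apply, Fin.sum_univ_six]

/-- The matrix of a root vector. -/
def rootN (r : Fin 12) : M6 := iotaFun (Pi.single (Sum.inr r) 1)

theorem rootN_nilpotent : ∀ r, mm (rootN r) (mm (rootN r) (rootN r)) = 0 := by decide +kernel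

/-- Words in root vectors giving the matrix units of the first row and column. -/
theorem rootN_units :
    mm (rootN 3) (mm (rootN 7) (rootN 6)) = Matrix.single 0 0 1 ∧
    mm (rootN 4) (rootN 8) = Matrix.single 1 0 1 ∧ mm (rootN 0) (rootN 6) = Matrix.single 2 0 1 ∧
    mm (rootN 1) (rootN 8) = Matrix.single 3 0 1 ∧ mm (rootN 0) (rootN 8) = Matrix.single 4 0 1 ∧
    mm (rootN 7) (rootN 6) = Matrix.single 5 0 1 := by decide +kernel

theorem scalar_symplectic : ∀ c : GF4, c * c = 1 → c = 1 := by decide +kernel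

/-- A symplectic matrix inducing the identity is the identity. -/
theorem eq_one_of_induces_one {A : GL (Fin 6) GF4} (hs : (A : M6)ᵀ * Jf * (A : M6) = Jf)
    (h : Induces (A : M6) 1) : (A : M6) = 1 := by
  have hN : ∀ r, Commute (A : M6) (rootN r) := by
    intro r
    obtain ⟨c, hc⟩ := h (Pi.single (Sum.inr r) 1)
    rw [Matrix.one_mulVec] at hc
    have e0 : iota (Pi.single (Sum.inr r) 1) = rootN r := rfl
    rw [e0] at hc
    have hn : IsNilpotent (rootN r) := ⟨3, by rw [pow_succ', pow_two, ← mm_eq, ← mm_eq]; exact rootN_nilpotent r⟩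
    have hn' : IsNilpotent (rootN r + c • (1 : M6)) := by
      refine ⟨3, ?_⟩
      have e1 : rootN r + c • (1 : M6) = (A : M6) * rootN r * ((A⁻¹ : GL (Fin 6) GF4) : M6) := by
        rw [hc, mul_assoc, Units.mul_inv, mul_one]
      have e3 : rootN r ^ 3 = 0 := by rw [pow_succ', pow_two, ← mm_eq, ← mm_eq]; exact rootN_nilpotent r
      rw [e1, Units.conj_pow, e3, mul_zero, zero_mul]
    have hsc : IsNilpotent (c • (1 : M6)) := by
      have := Commute.isNilpotent_sub
        (show Commute (rootN r + c • (1 : M6)) (rootN r) from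
          (Commute.refl _).add_left ((Commute.one_left _).smul_left c)) hn' hn
      simpa using this
    obtain ⟨k, hk⟩ := hsc
    rw [smul_pow, one_pow] at hk
    have hck : c ^ k = 0 := by simpa using congrFun (congrFun hk 0) 0
    have hc0 : c = 0 := eq_zero_of_pow_eq_zero hck
    rw [hc0, zero_smul, add_zero] at hc
    exact hc
  obtain ⟨u0, u1, u2, u3, u4, u5⟩ := rootN_units
  have hcom : ∀ k : Fin 6, Commute (A : M6) (Matrix.single k 0 1) := by
    intro k
    fin_cases k
    · show Commute _ (Matrix.single (0 : Fin 6) 0 1)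
      rw [← u0, mm_eq, mm_eq]; exact (hN 3).mul_right ((hN 7).mul_right (hN 6))
    · show Commute _ (Matrix.single (1 : Fin 6) 0 1)
      rw [← u1, mm_eq]; exact (hN 4).mul_right (hN 8)
    · show Commute _ (Matrix.single (2 : Fin 6) 0 1)
      rw [← u2, mm_eq]; exact (hN 0).mul_right (hN 6)
    · show Commute _ (Matrix.single (3 : Fin 6) 0 1)
      rw [← u3, mm_eq]; exact (hN 1).mul_right (hN 8)
    · show Commute _ (Matrix.single (4 : Fin 6) 0 1)
      rw [← u4, mm_eq]; exact (hN 0).mul_right (hN 8)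
    · show Commute _ (Matrix.single (5 : Fin 6) 0 1)
      rw [← u5, mm_eq]; exact (hN 7).mul_right (hN 6)
  have hA : (A : M6) = ((A : M6) 0 0) • (1 : M6) := by
    ext i k
    have e := congrFun (congrFun (hcom k).eq i) 0
    rw [Matrix.mul_apply, Matrix.mul_apply, Finset.sum_eq_single k (fun b _ hb => by
        rw [Matrix.single_apply_of_row_ne hb.symm, mul_zero]) (fun hk => absurd (Finset.mem_univ _) hk),
      Matrix.single_apply_same, mul_one, Finset.sum_eq_single 0 (fun b _ hb => by
        rw [Matrix.single_apply_of_col_ne _ _ hb.symm, zero_mul]) (fun hk => absurd (Finset.mem_univ _) hk)] at e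
    rw [e, Matrix.smul_apply, Matrix.one_apply, smul_eq_mul]
    rcases eq_or_ne i k with rfl | hik
    · simp
    · rw [if_neg hik, mul_zero, Matrix.single_apply_of_row_ne hik.symm, zero_mul]
  set c := (A : M6) 0 0
  rw [hA] at hs
  have e := congrFun (congrFun hs 0) 3
  simp only [Matrix.transpose_smul, Matrix.transpose_one, smul_mul_assoc, one_mul, mul_smul_comm, mul_one,
    Matrix.smul_apply, smul_eq_mul] at e
  have hJ : Jf 0 3 = 1 := by decide +kernel
  rw [hJ, mul_one] at e
  rw [hA, scalar_symplectic c e, one_smul]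

/-- A map induced by the identity is the identity. -/
theorem eq_one_of_one_induces {M : Matrix chevG2.Idx chevG2.Idx GF4} (h : Induces 1 M) : M = 1 := by
  refine Matrix.toLin'.injective (LinearMap.ext fun v => ?_)
  obtain ⟨c, hc⟩ := h v
  rw [one_mul, mul_one] at hc
  rw [Matrix.toLin'_apply, Matrix.toLin'_apply, Matrix.one_mulVec, ← sub_eq_zero]
  refine eq_zero_of_iota_scalar (c := -c) ?_
  rw [map_sub, hc, neg_smul]
  abel

/-! ### The root elements -/

/-- The matrix of a root element in dimension six. -/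
def rootA (r : Fin 12) (t : GF4) : M6 :=
  1 + t • rootN r + Matrix.of fun i j =>
    if (r.val, i.val, j.val) ∈ [(7, 0, 3), (8, 1, 4), (2, 2, 5), (4, 3, 0), (3, 4, 1), (9, 5, 2)] then t * t else 0

theorem rootA_facts : ∀ r t, mm (rootA r t) (rootA r t) = 1 ∧
    mm (rootA r t)ᵀ (mm Jf (rootA r t)) = Jf := by decide +kernel

theorem rootA_induces : ∀ (r : Fin 12) (t : GF4) (k : chevG2.Idx), ∃ c : GF4,
    mm (rootA r t) (iotaFun (Pi.single k 1)) =
      mm (iotaFun (fun a => xR chevG2 GF4 r.val t a k) + c • 1) (rootA r t) := by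
  decide +kernel

theorem induces_rootA (r : Fin 12) (t : GF4) : Induces (rootA r t) (xR chevG2 GF4 r.val t) := by
  let S : Submodule GF4 Adj :=
    { carrier := {v | ∃ c : GF4, rootA r t * iota v = (iota (xR chevG2 GF4 r.val t *ᵥ v) + c • 1) * rootA r t}
      zero_mem' := ⟨0, by simp⟩
      add_mem' := by
        rintro u v ⟨a, ha⟩ ⟨b, hb⟩
        refine ⟨a + b, ?_⟩
        rw [map_add, mul_add, ha, hb, Matrix.mulVec_add, map_add, add_smul, ← add_mul]
        congr 1
        abel
      smul_mem' := by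
        rintro s v ⟨a, ha⟩
        refine ⟨s * a, ?_⟩
        rw [map_smul, mul_smul_comm, ha, Matrix.mulVec_smul, map_smul, mul_smul, ← smul_add, smul_mul_assoc] }
  intro v
  show v ∈ S
  rw [pi_eq_sum_univ' v]
  refine Submodule.sum_mem _ fun k _ => S.smul_mem _ ?_
  obtain ⟨c, hc⟩ := rootA_induces r t k
  refine ⟨c, ?_⟩
  rw [mm_eq, mm_eq] at hc
  rw [Matrix.mulVec_single_one]
  exact hc

/-- The root element in dimension six. -/
def rootGL (r : Fin 12) (t : GF4) : GL (Fin 6) GF4 :=
  ⟨rootA r t, rootA r t, by rw [← mm_eq]; exact (rootA_facts r t).1, by rw [← mm_eq]; exact (rootA_facts r t).1⟩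

/-- The root element of the group. -/
noncomputable def xgen (r : Fin 12) (t : GF4) : GL chevG2.Idx GF4 := xg DataG2.good GF4 r.val t

theorem coe_xgen (r : Fin 12) (t : GF4) :
    (xgen r t : Matrix chevG2.Idx chevG2.Idx GF4) = xR chevG2 GF4 r.val t := by
  rw [xgen, coe_xg, x_eq_xR chevG2 r.isLt]

theorem gen_mem_pairs (r : Fin 12) (t : GF4) : (rootGL r t, xgen r t) ∈ pairs := by
  refine ⟨?_, ?_⟩
  · show (rootA r t)ᵀ * Jf * rootA r t = Jf
    have h := (rootA_facts r t).2
    rwa [mm_eq, mm_eq, ← mul_assoc] at h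
  · show Induces (rootA r t) (xgen r t : Matrix chevG2.Idx chevG2.Idx GF4)
    rw [coe_xgen]; exact induces_rootA r t

/-! ### The representation -/

/-- The diagonal group. -/
def diag6 : Subgroup (GL (Fin 6) GF4 × GL chevG2.Idx GF4) :=
  Subgroup.closure (Set.range fun p : Fin 12 × GF4 => (rootGL p.1 p.2, xgen p.1 p.2))

theorem diag6_le : diag6 ≤ pairs := by
  rw [diag6, Subgroup.closure_le]
  rintro _ ⟨p, rfl⟩
  exact gen_mem_pairs p.1 p.2

theorem map_snd : diag6.map (MonoidHom.snd _ _) = chevG2.group GF4 := by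
  rw [diag6, MonoidHom.map_closure, ChevalleyDatum.group]
  congr 1
  ext g
  constructor
  · rintro ⟨_, ⟨⟨r, t⟩, rfl⟩, rfl⟩
    refine ⟨r, t, ?_⟩
    show (xgen r t : Matrix chevG2.Idx chevG2.Idx GF4) = _
    rw [xgen, coe_xg]
    exact dif_pos r.isLt
  · rintro ⟨r, t, h⟩
    refine ⟨_, ⟨(r, t), rfl⟩, Units.ext ?_⟩
    show (xgen r t : Matrix chevG2.Idx chevG2.Idx GF4) = _
    rw [h]
    unfold xgen
    rw [coe_xg]
    exact dif_pos r.isLt

/-- The second projection onto the group. -/
def sndHom : diag6 →* chevG2.group GF4 :=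
  ((MonoidHom.snd _ _).comp diag6.subtype).codRestrict _ fun p => map_snd ▸ ⟨p.1, p.2, rfl⟩

theorem sndHom_bijective : Function.Bijective sndHom := by
  constructor
  · refine (injective_iff_map_eq_one _).2 fun p hp => ?_
    have h2 : (p.1.2 : GL chevG2.Idx GF4) = 1 := congrArg Subtype.val hp
    obtain ⟨hs, hi⟩ := diag6_le p.2
    rw [h2, Units.val_one] at hi
    exact Subtype.ext (Prod.ext (Units.ext (eq_one_of_induces_one hs hi)) h2)
  · rintro ⟨g, hg⟩
    rw [← map_snd] at hg
    obtain ⟨p, hp, rfl⟩ := hg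
    exact ⟨⟨p, hp⟩, rfl⟩

/-- The representation. -/
noncomputable def rho : chevG2.group GF4 →* GL (Fin 6) GF4 :=
  ((MonoidHom.fst _ _).comp diag6.subtype).comp (MulEquiv.ofBijective _ sndHom_bijective).symm.toMonoidHom

theorem rho_sndHom (p : diag6) : rho (sndHom p) = p.1.1 := by
  have e : (MulEquiv.ofBijective _ sndHom_bijective).symm (sndHom p) = p :=
    (MulEquiv.ofBijective _ sndHom_bijective).symm_apply_apply p
  show ((MulEquiv.ofBijective _ sndHom_bijective).symm (sndHom p)).1.1 = _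
  rw [e]

theorem rho_injective : Function.Injective rho := by
  refine (injective_iff_map_eq_one _).2 fun g hg => ?_
  obtain ⟨p, rfl⟩ := sndHom_bijective.2 g
  rw [rho_sndHom] at hg
  obtain ⟨-, hi⟩ := diag6_le p.2
  rw [hg, Units.val_one] at hi
  have h2 : p.1.2 = 1 := Units.ext (eq_one_of_one_induces hi)
  exact Subtype.ext h2

/-- An element of the group from a word in root elements. -/
noncomputable def wordEl (w : List (Fin 12 × GF4)) : chevG2.group GF4 :=
  sndHom ⟨(w.map fun p => (rootGL p.1 p.2, xgen p.1 p.2)).prod,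
    Subgroup.list_prod_mem _ fun x hx => by
      obtain ⟨p, -, rfl⟩ := List.mem_map.1 hx
      exact Subgroup.subset_closure ⟨p, rfl⟩⟩

theorem rho_wordEl (w : List (Fin 12 × GF4)) :
    (rho (wordEl w) : M6) = (w.map fun p => rootA p.1 p.2).prod := by
  rw [wordEl, rho_sndHom]
  induction w with
  | nil => simp
  | cons a w ih =>
    simp only [List.map_cons, List.prod_cons, Prod.fst_mul, Units.val_mul]
    rw [ih]
    rfl

end Cfsg.Agent.G2Four
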