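import Cfsg.Agent.EqLemmas
import Cfsg.Agent.Lib.G2Four.Model
import Cfsg.Agent.S1059

/-!
# Elements of orders six, ten, seven and thirteen of `G₂(4)`

* `exists_order_six`, `exists_order_ten`
* `fix_seven`, `fix_thirteen`: elements of order 7 or 13 have no fixed vectors in dimension six
* `prime_dvd_card`: the primes dividing the order
-/

set_option autoImplicit false

namespace Cfsg.Agent.G2Four

open Cfsg.Lie
open Cfsg.Agent.Unitary (GF4)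
open scoped Matrix

/-- A primitive element. -/
local notation "o" => GF4.om
/-- Its square. -/
local notation "o²" => GF4.om2

/-- A matrix. -/
def m6 : M6 :=
  !![1, 0, 0, 0, 0, 0; 0, 0, o, 0, 0, o²; 0, o², 1, 0, 0, o; 0, o², 0, 1, 0, 0; o², 0, 0, 0, 1, o²; 1, 0, 0, 0, o, 0]

/-- A matrix. -/
def m6_2 : M6 :=
  !![1, 0, 0, 0, 0, 0; o², 1, o, 0, 1, o²; o, o², 0, 0, o², 0; 0, o², 1, 1, 0, o; o², 0, 0, 0, 0, o²; 0, 0, 0, 0, o, 1]

/-- A matrix. -/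
def m6_3 : M6 :=
  !![1, 0, 0, 0, 0, 0; o², 1, 0, 0, 0, o²; 0, 0, 1, 0, o², 0; o, 0, 0, 1, o², 0; 0, 0, 0, 0, 1, 0; 0, 0, 0, 0, 0, 1]

/-- A matrix. -/
def m6_4 : M6 :=
  !![1, 0, 0, 0, 0, 0; 0, 0, o, 0, 1, o²; o, o², 1, 0, o², 0; 0, o², 0, 1, o², o; o², 0, 0, 0, 1, o²; 1, 0, 0, 0, o, 0]

/-- A matrix. -/
def m10 : M6 :=
  !![1, 0, 0, 0, o², o; 0, o, o², 0, 1, 0; 0, 0, 1, o, 0, 0; 0, 0, 1, o², 0, 0; 0, o², 1, 0, 1, 0; 1, 0, 0, 0, 1, o²]

/-- A matrix. -/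
def m10_2 : M6 :=
  !![o², o, o², 0, o, o²; 0, 0, o², 1, o², 0; 0, 0, o², o², 0, 0; 0, 0, o, 0, 0, 0; 0, o, o, o, o, 0; o, o², 1, 0, 1, 0]

/-- A matrix. -/
def m10_4 : M6 :=
  !![o², 0, 1, o², 0, o; 0, 1, 1, o², 1, 0; 0, 0, o², o, 0, 0; 0, 0, 1, 1, 0, 0; 0, o², 0, 0, o, 0; 1, 1, o, o, o², 1]

/-- A matrix. -/
def m10_5 : M6 :=
  !![1, 0, o, 0, 0, 0; 0, 1, 0, 0, 0, 0; 0, 0, 1, 0, 0, 0; 0, 0, 0, 1, 0, 0; 0, 0, 0, 0, 1, 0; 0, 0, 0, o, 0, 1]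

/-- A matrix. -/
def m10_8 : M6 :=
  !![0, o, 0, 0, 1, o²; 0, o, 1, o, o², 0; 0, 0, 0, o², 0, 0; 0, 0, o, o², 0, 0; 0, o, o², o, 0, 0; o, o, 1, o², o², o²]

/-- A matrix. -/
def m7 : M6 :=
  !![0, 0, o, 0, 0, o; 0, 1, 0, 0, o, 0; o², 0, 1, 0, 0, 1; 0, 1, o², 1, o, 0; 1, 0, 0, 0, 1, 0; o², o, 1, o, o², 1]

/-- A matrix. -/
def m7_2 : M6 :=
  !![0, o², 0, o², 1, 0; o, 1, 0, 0, 0, 0; 0, o, 1, o, o², 1; 0, 0, 0, 1, o, o²; 1, 0, o, 0, 1, o; o², o, 0, 0, 0, 1]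

/-- A matrix. -/
def m7_4 : M6 :=
  !![0, o², o, o², 0, 0; o, 0, 0, 1, o, 0; o², o, 0, 0, o², 0; 0, 1, o², 1, 0, o²; 0, o², 0, 0, 1, o; 0, o, 0, o, o², 1]

/-- A matrix. -/
def m13 : M6 :=
  !![1, 1, o², o, o, 1; 0, 1, o², o, 0, 1; 1, 1, 1, o, o², 0; 1, 1, 0, o², o, 0; 0, 1, o², o², 1, 1; 0, 0, o², 0, 0, 1]

/-- A matrix. -/
def m13_2 : M6 :=
  !![0, o², 1, 1, 1, o²; 1, 0, o², o, 1, 0; o, 0, o², 1, 1, o²; o, 1, 1, o², 1, o; 0, 0, 0, o, o, 1; o², o², 0, 1, o, 1]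

/-- A matrix. -/
def m13_4 : M6 :=
  !![1, o², 0, o, 0, o²; o, 1, 1, 1, o, o²; 1, o, 1, o², o², o²; o², o², 1, o², 0, 0; 0, 1, o, o², o², 0; o, 0, 0, o², 0, o²]

/-- A matrix. -/
def m13_8 : M6 :=
  !![0, 1, 1, o, 1, o²; o², o², o, 1, 0, o²; 0, o, 1, 1, o, o²; 1, 1, 1, o², o, o²; o, o², 1, 0, 1, o; 1, o², o², o², 0, o²]

/-- A matrix. -/
def m13_12 : M6 :=
  !![o², o², 0, o, o, o; o, 1, 0, o, 0, o²; 0, 1, 1, 1, 1, 0; 1, 0, 0, 1, 0, 1; 1, 1, 0, 1, 1, 1; 0, o², o², o², o², 1]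

/-- Inverse of `m7 + 1`. -/
def m7inv : M6 :=
  !![0, 0, 0, 0, 1, 0; o, 1, o², 1, 0, 0; o², 0, 1, 0, 0, 0; 0, 0, 0, 1, o, o²; 0, o², 0, 0, 0, 0; 0, 0, 1, 0, o², 0]

/-- Inverse of `m13 + 1`. -/
def m13inv : M6 :=
  !![o², 1, o², o, o, 0; 1, 1, o, o, 0, 0; 0, 0, 0, 0, 0, o; 1, 0, o, o, 1, 0; 0, 0, 1, 1, 0, 0; o, 1, o², o², o, 1]

/-- Product of a word. -/
def wordA : List (Fin 12 × GF4) → M6
  | [] => 1
  | [p] => rootA p.1 p.2
  | p :: w => mm (rootA p.1 p.2) (wordA w)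

theorem wordA_eq : ∀ w : List (Fin 12 × GF4), wordA w = (w.map fun p => rootA p.1 p.2).prod
  | [] => by simp [wordA]
  | [p] => by simp [wordA]
  | p :: q :: w => by
    rw [wordA, mm_eq, wordA_eq (q :: w), List.map_cons (a := p), List.prod_cons]
    simp

theorem facts_six : wordA [(11, o), (0, o²), (2, o²)] = m6 ∧ mm m6 m6 = m6_2 ∧ mm m6_2 m6 = m6_3 ∧
    mm m6_3 m6_3 = 1 ∧ m6_2 ≠ 1 ∧ m6_3 ≠ 1 := by decide +kernel

theorem facts_ten : wordA [(8, 1), (3, o), (11, o)] = m10 ∧ mm m10 m10 = m10_2 ∧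
    mm m10_2 m10_2 = m10_4 ∧ mm m10_4 m10 = m10_5 ∧ mm m10_5 m10_5 = 1 ∧ m10_2 ≠ 1 ∧ m10_5 ≠ 1 := by
  decide +kernel

theorem facts_seven : wordA [(10, o), (2, 1), (8, o²)] = m7 ∧ mm m7 m7 = m7_2 ∧ mm m7_2 m7_2 = m7_4 ∧
    mm m7_4 (mm m7_2 m7) = 1 ∧ m7 ≠ 1 ∧ mm m7inv (m7 + 1) = 1 := by
  decide +kernel

theorem facts_thirteen : wordA [(3, 1), (4, 1), (9, o), (5, 1)] = m13 ∧ mm m13 m13 = m13_2 ∧
    mm m13_2 m13_2 = m13_4 ∧ mm m13_4 m13_4 = m13_8 ∧ mm m13_8 m13_4 = m13_12 ∧ mm m13_12 m13 = 1 ∧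
    m13 ≠ 1 ∧ mm m13inv (m13 + 1) = 1 := by
  decide +kernel

theorem rho_wordEl' (w : List (Fin 12 × GF4)) : (rho (wordEl w) : M6) = wordA w := by
  rw [rho_wordEl, wordA_eq]

theorem pow_eq_one_iff_rho (g : chevG2.group GF4) (n : ℕ) : g ^ n = 1 ↔ (rho g : M6) ^ n = 1 := by
  rw [← Units.val_pow_eq_pow_val, Units.val_eq_one, ← map_pow, map_eq_one_iff rho rho_injective]

theorem orderOf_of_two_primes {g : chevG2.group GF4} {q : ℕ} (hq : q.Prime) (hq2 : q ≠ 2)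
    (h : g ^ (2 * q) = 1) (h2 : g ^ 2 ≠ 1) (hq1 : g ^ q ≠ 1) : orderOf g = 2 * q := by
  obtain ⟨a, b, ha, hb, e⟩ := Nat.dvd_mul.1 (orderOf_dvd_of_pow_eq_one h)
  rcases (Nat.dvd_prime Nat.prime_two).1 ha with rfl | rfl <;> rcases (Nat.dvd_prime hq).1 hb with rfl | rfl
  · exact absurd (orderOf_dvd_iff_pow_eq_one.1 (e ▸ one_dvd 2)) h2
  · exact absurd (orderOf_dvd_iff_pow_eq_one.1 (by rw [← e, one_mul])) hq1
  · exact absurd (orderOf_dvd_iff_pow_eq_one.1 (by rw [← e])) h2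
  · exact e.symm

theorem exists_order_six : ∃ g : chevG2.group GF4, orderOf g = 2 * 3 := by
  obtain ⟨hw, h2, h3, h6, n2, n3⟩ := facts_six
  rw [← rho_wordEl'] at hw
  rw [mm_eq] at h2 h3 h6
  have e3 : m6 ^ 3 = m6_3 := by rw [pow_succ, pow_two, h2, h3]
  refine ⟨wordEl [(11, o), (0, o²), (2, o²)], orderOf_of_two_primes Nat.prime_three (by norm_num) ?_ ?_ ?_⟩
  · rw [pow_eq_one_iff_rho, hw, pow_mul', e3, pow_two, h6]
  · rw [ne_eq, pow_eq_one_iff_rho, hw, pow_two, h2]; exact n2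
  · rw [ne_eq, pow_eq_one_iff_rho, hw, e3]; exact n3

theorem exists_order_ten : ∃ g : chevG2.group GF4, orderOf g = 2 * 5 := by
  obtain ⟨hw, h2, h4, h5, h10, n2, n5⟩ := facts_ten
  rw [← rho_wordEl'] at hw
  rw [mm_eq] at h2 h4 h5 h10
  have e5 : m10 ^ 5 = m10_5 := by
    rw [show (5 : ℕ) = 2 * 2 + 1 from rfl, pow_succ, pow_mul, pow_two m10, h2, pow_two, h4, h5]
  refine ⟨wordEl [(8, 1), (3, o), (11, o)], orderOf_of_two_primes Nat.prime_five (by norm_num) ?_ ?_ ?_⟩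
  · rw [pow_eq_one_iff_rho, hw, pow_mul', e5, pow_two, h10]
  · rw [ne_eq, pow_eq_one_iff_rho, hw, pow_two, h2]; exact n2
  · rw [ne_eq, pow_eq_one_iff_rho, hw, e5]; exact n5

theorem card_group : Nat.card (chevG2.group GF4) = 251596800 := by
  rw [Cfsg.Agent.S1059.result (F := GF4) (q := 4) (Unitary.GF4.card.trans (by norm_num))]
  norm_num

theorem prime_dvd_card {p : ℕ} (hp : p.Prime) :
    p ∣ Nat.card (chevG2.group GF4) ↔ p = 2 ∨ p = 3 ∨ p = 5 ∨ p = 7 ∨ p = 13 := by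
  rw [card_group, show 251596800 = 2 ^ 12 * (3 ^ 3 * (5 ^ 2 * (7 * 13))) by norm_num,
    hp.dvd_mul, hp.dvd_mul, hp.dvd_mul, hp.dvd_mul, Nat.prime_dvd_prime_iff_eq hp (by norm_num : Nat.Prime 7),
    Nat.prime_dvd_prime_iff_eq hp (by norm_num : Nat.Prime 13)]
  constructor
  · rintro (h | h | h | h | h)
    · exact Or.inl ((Nat.prime_dvd_prime_iff_eq hp Nat.prime_two).1 (hp.dvd_of_dvd_pow h))
    · exact Or.inr (Or.inl ((Nat.prime_dvd_prime_iff_eq hp Nat.prime_three).1 (hp.dvd_of_dvd_pow h)))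
    · exact Or.inr (Or.inr (Or.inl ((Nat.prime_dvd_prime_iff_eq hp Nat.prime_five).1 (hp.dvd_of_dvd_pow h))))
    · exact Or.inr (Or.inr (Or.inr (Or.inl h)))
    · exact Or.inr (Or.inr (Or.inr (Or.inr h)))
  · rintro (rfl | rfl | rfl | rfl | rfl) <;> norm_num

/-- If one element of order `q` has no fixed vector, and `q` divides the order once, none has. -/
theorem fixed_eq_zero {q : ℕ} (hq : q.Prime) (hone : (Nat.card (chevG2.group GF4)).factorization q = 1)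
    {g : chevG2.group GF4} (hg : orderOf g = q) {B : M6} (hB : B * ((rho g : M6) + 1) = 1)
    {x : chevG2.group GF4} (hx : orderOf x = q) {v : Fin 6 → GF4} (hv : (rho x : M6) *ᵥ v = v) : v = 0 := by
  haveI := Fact.mk hq
  have hcard : ∀ y : chevG2.group GF4, orderOf y = q →
      Nat.card (Subgroup.zpowers y) = q ^ (Nat.card (chevG2.group GF4)).factorization q := fun y hy => by
    rw [Nat.card_zpowers, hy, hone, pow_one]
  let P := Sylow.ofCard (Subgroup.zpowers x) (hcard x hx)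
  let Q := Sylow.ofCard (Subgroup.zpowers g) (hcard g hg)
  obtain ⟨c, hc⟩ := MulAction.exists_smul_eq (chevG2.group GF4) P Q
  have hmem : c⁻¹ * g * c ∈ Subgroup.zpowers x := by
    have h1 : g ∈ (Q : Subgroup (chevG2.group GF4)) := Subgroup.mem_zpowers g
    rw [← hc, Sylow.coe_subgroup_smul, Subgroup.mem_pointwise_smul_iff_inv_smul_mem] at h1
    have e : (MulAut.conj c)⁻¹ • g = c⁻¹ * g * c := by simp [MulAut.smul_def]
    exact e ▸ h1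
  obtain ⟨n, hn⟩ := mem_powers_iff_mem_zpowers.2 hmem
  have hnv : (rho x : M6) ^ n *ᵥ v = v := by
    clear hn
    induction n with
    | zero => simp
    | succ k ih => rw [pow_succ, ← Matrix.mulVec_mulVec, hv, ih]
  set w := (rho c : M6) *ᵥ v with hw
  have hgw : (rho g : M6) *ᵥ w = w := by
    have e : (rho g : M6) * (rho c : M6) = (rho c : M6) * (rho x : M6) ^ n := by
      rw [← Units.val_pow_eq_pow_val, ← Units.val_mul, ← Units.val_mul, ← map_pow, ← map_mul, ← map_mul]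
      congr 2
      rw [show x ^ n = c⁻¹ * g * c from hn]
      group
    rw [hw, Matrix.mulVec_mulVec, e, ← Matrix.mulVec_mulVec, hnv]
  have hw0 : w = 0 := by
    have h2 : ((rho g : M6) + 1) *ᵥ w = 0 := by
      rw [Matrix.add_mulVec, hgw, Matrix.one_mulVec]
      funext i
      have := (by decide +kernel : ∀ z : GF4, z + z = 0) (w i)
      simpa using this
    calc w = (B * ((rho g : M6) + 1)) *ᵥ w := by rw [hB, Matrix.one_mulVec]
      _ = 0 := by rw [← Matrix.mulVec_mulVec, h2, Matrix.mulVec_zero]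
  calc v = (((rho c)⁻¹ : GL (Fin 6) GF4) : M6) *ᵥ w := by
        rw [hw, Matrix.mulVec_mulVec, Units.inv_mul, Matrix.one_mulVec]
    _ = 0 := by rw [hw0, Matrix.mulVec_zero]

theorem fix_seven {x : chevG2.group GF4} (hx : orderOf x = 7) {v : Fin 6 → GF4}
    (hv : (rho x : M6) *ᵥ v = v) : v = 0 := by
  obtain ⟨hw, h2, h4, h7, hne, hB⟩ := facts_seven
  rw [← rho_wordEl'] at hw
  rw [mm_eq] at h2 h4 h7 hB
  rw [mm_eq] at h7
  haveI : Fact (Nat.Prime 7) := ⟨by norm_num⟩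
  refine fixed_eq_zero (q := 7) (by norm_num) ?_ (g := wordEl [(10, o), (2, 1), (8, o²)])
    (orderOf_eq_prime ?_ ?_) (B := m7inv) (by rw [hw]; exact hB) hx hv
  · rw [card_group, show 251596800 = 7 ^ 1 * 35942400 by norm_num,
      Nat.factorization_mul (by norm_num) (by norm_num), Finsupp.add_apply,
      Nat.Prime.factorization_pow (by norm_num), Finsupp.single_eq_same,
      Nat.factorization_eq_zero_of_not_dvd (by norm_num)]
  · rw [pow_eq_one_iff_rho, hw, show (7 : ℕ) = 2 * 2 + (2 + 1) from rfl, pow_add, pow_succ (n := 2), pow_mul,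
      pow_two m7, h2, pow_two, h4, h7]
  · intro h
    rw [h, map_one, Units.val_one] at hw
    exact hne hw.symm

theorem fix_thirteen {x : chevG2.group GF4} (hx : orderOf x = 13) {v : Fin 6 → GF4}
    (hv : (rho x : M6) *ᵥ v = v) : v = 0 := by
  obtain ⟨hw, h2, h4, h8, h12, h13, hne, hB⟩ := facts_thirteen
  rw [← rho_wordEl'] at hw
  rw [mm_eq] at h2 h4 h8 h12 h13 hB
  haveI : Fact (Nat.Prime 13) := ⟨by norm_num⟩
  refine fixed_eq_zero (q := 13) (by norm_num) ?_ (g := wordEl [(3, 1), (4, 1), (9, o), (5, 1)])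
    (orderOf_eq_prime ?_ ?_) (B := m13inv) (by rw [hw]; exact hB) hx hv
  · rw [card_group, show 251596800 = 13 ^ 1 * 19353600 by norm_num,
      Nat.factorization_mul (by norm_num) (by norm_num), Finsupp.add_apply,
      Nat.Prime.factorization_pow (by norm_num), Finsupp.single_eq_same,
      Nat.factorization_eq_zero_of_not_dvd (by norm_num)]
  · have e4 : m13 ^ 4 = m13_4 := by rw [show (4 : ℕ) = 2 * 2 from rfl, pow_mul, pow_two m13, h2, pow_two, h4]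
    have e8 : m13 ^ 8 = m13_8 := by rw [show (8 : ℕ) = 4 * 2 from rfl, pow_mul, e4, pow_two, h8]
    rw [pow_eq_one_iff_rho, hw, show (13 : ℕ) = 8 + 4 + 1 from rfl, pow_succ, pow_add, e8, e4, h12, h13]
  · intro h
    rw [h, map_one, Units.val_one] at hw
    exact hne hw.symm

end Cfsg.Agent.G2Four
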