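import Cfsg.Agent.EqLemmas
import Cfsg.Agent.Lib.G2Four.Elements
import Cfsg.Agent.Lib.ChevFixed.Basic

/-!
# Groups with the prime graph of `G₂(4)`

`Ext N`: the extension of `(GF4⁶)^(N+1)` by `chevG2.group GF4`; `same_primes`, `same_edges`.
-/

set_option autoImplicit false

namespace Cfsg.Agent.G2Four

open Cfsg.Lie
open Cfsg.Agent.Unitary (GF4)
open scoped Matrix

/-- The module. -/
abbrev Mod (N : ℕ) : Type := Multiplicative (Fin (N + 1) → Fin 6 → GF4)

/-- The action on the module. -/
noncomputable def act (N : ℕ) : chevG2.group GF4 →* MulAut (Mod N) where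
  toFun g :=
    { toFun := fun v => Multiplicative.ofAdd fun i => (rho g : M6) *ᵥ (Multiplicative.toAdd v i)
      invFun := fun v => Multiplicative.ofAdd fun i => (rho g⁻¹ : M6) *ᵥ (Multiplicative.toAdd v i)
      left_inv := fun v => by
        refine Multiplicative.toAdd.injective (funext fun i => ?_)
        simp [Matrix.mulVec_mulVec]
      right_inv := fun v => by
        refine Multiplicative.toAdd.injective (funext fun i => ?_)
        simp [Matrix.mulVec_mulVec]
      map_mul' := fun v w => by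
        refine Multiplicative.toAdd.injective (funext fun i => ?_)
        simp [Matrix.mulVec_add] }
  map_one' := by
    refine MulEquiv.ext fun v => Multiplicative.toAdd.injective (funext fun i => ?_)
    simp
  map_mul' g h := by
    refine MulEquiv.ext fun v => Multiplicative.toAdd.injective (funext fun i => ?_)
    simp [Matrix.mulVec_mulVec]

/-- The extension. -/
abbrev Ext (N : ℕ) : Type := Mod N ⋊[act N] ↥(chevG2.group GF4)

theorem card_mod (N : ℕ) : Nat.card (Mod N) = 2 ^ (12 * (N + 1)) := by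
  rw [Nat.card_congr Multiplicative.toAdd, Nat.card_fun, Nat.card_fun, Nat.card_eq_fintype_card (α := GF4),
    Unitary.GF4.card, Nat.card_fin, Nat.card_fin, ← pow_mul, ← pow_mul]
  ring_nf

theorem card_ext (N : ℕ) : Nat.card (Ext N) = 2 ^ (12 * (N + 1)) * Nat.card (chevG2.group GF4) := by
  rw [SemidirectProduct.card, card_mod]

theorem lt_card_ext (N : ℕ) : N < Nat.card (Ext N) := by
  rw [card_ext, card_group]
  have h : N < 2 ^ N := Nat.lt_two_pow_self
  have h' : 2 ^ N ≤ 2 ^ (12 * (N + 1)) := Nat.pow_le_pow_right (by norm_num) (by omega)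
  nlinarith

theorem same_primes (N : ℕ) {p : ℕ} (hp : p.Prime) :
    p ∣ Nat.card (chevG2.group GF4) ↔ p ∣ Nat.card (Ext N) := by
  rw [card_ext, hp.dvd_mul]
  refine ⟨Or.inr, fun h => h.elim (fun h2 => ?_) id⟩
  rw [(Nat.prime_dvd_prime_iff_eq hp Nat.prime_two).1 (hp.dvd_of_dvd_pow h2)]
  exact (prime_dvd_card Nat.prime_two).2 (Or.inl rfl)

theorem mod_sq (N : ℕ) (v : Mod N) : v ^ 2 = 1 := by
  refine Multiplicative.toAdd.injective (funext fun i => funext fun j => ?_)
  have h : ∀ z : GF4, z + z = 0 := by decide +kernel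
  rw [pow_two, toAdd_mul, Pi.add_apply, Pi.add_apply]
  exact h _

/-- An element of the kernel fixed by a fixed-point-free element is trivial. -/
theorem eq_one_of_fixed (N : ℕ) {x : chevG2.group GF4} (hx : orderOf x = 7 ∨ orderOf x = 13) {v : Mod N}
    (hv : act N x v = v) : v = 1 := by
  refine Multiplicative.toAdd.injective (funext fun i => ?_)
  have e : (rho x : M6) *ᵥ Multiplicative.toAdd v i = Multiplicative.toAdd v i :=
    congrFun (congrArg Multiplicative.toAdd hv) i
  rcases hx with hx | hx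
  · exact fix_seven hx e
  · exact fix_thirteen hx e

theorem same_edges (N : ℕ) {p q : ℕ} (hp : p.Prime) (hq : q.Prime) (hpq : p ≠ q) :
    (∃ g : chevG2.group GF4, orderOf g = p * q) ↔ ∃ g : Ext N, orderOf g = p * q := by
  constructor
  · rintro ⟨g, hg⟩
    exact ⟨SemidirectProduct.inr g, by rw [orderOf_injective _ SemidirectProduct.inr_injective, hg]⟩
  rintro ⟨h, hh⟩
  set g := h.right with hgdef
  have hdvd : orderOf g ∣ p * q := hh ▸ orderOf_map_dvd SemidirectProduct.rightHom h
  by_cases hn : orderOf g = p * q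
  · exact ⟨g, hn⟩
  -- one of the primes is absent from the order of the image
  obtain ⟨r, s, hr, hs, hrs, hprod, hgs⟩ : ∃ r s : ℕ, r.Prime ∧ s.Prime ∧ r ≠ s ∧ r * s = p * q ∧ g ^ s = 1 := by
    obtain ⟨a, b, ha, hb, e⟩ := Nat.dvd_mul.1 hdvd
    rcases (Nat.dvd_prime hp).1 ha with rfl | rfl
    · refine ⟨p, q, hp, hq, hpq, rfl, orderOf_dvd_iff_pow_eq_one.1 ?_⟩
      rw [← e, one_mul]; exact hb
    · rcases (Nat.dvd_prime hq).1 hb with rfl | rfl
      · exact ⟨q, a, hq, hp, hpq.symm, mul_comm _ _, orderOf_dvd_iff_pow_eq_one.1 (by rw [← e, mul_one])⟩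
      · exact absurd e.symm hn
  rw [← hprod] at hh ⊢
  set k := h ^ s with hk
  have hkr : k.right = 1 := by
    rw [show k.right = SemidirectProduct.rightHom (h ^ s) from rfl, map_pow]; exact hgs
  have hok : orderOf k = r := by
    rw [hk, orderOf_pow_of_dvd hs.ne_zero (hh ▸ dvd_mul_left s r), hh, Nat.mul_div_cancel _ hs.pos]
  have hkl : k = SemidirectProduct.inl k.left := SemidirectProduct.ext rfl hkr
  have hkl1 : k.left ≠ 1 := by
    intro h1
    rw [h1, map_one] at hkl
    rw [hkl, orderOf_one] at hok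
    exact hr.one_lt.ne hok
  have hr2 : r = 2 := by
    refine (Nat.prime_dvd_prime_iff_eq hr Nat.prime_two).1 (hok ▸ orderOf_dvd_of_pow_eq_one ?_)
    rw [hkl, ← map_pow, mod_sq, map_one]
  subst hr2
  have hg1 : g ≠ 1 := by
    intro h1
    have e : h = SemidirectProduct.inl h.left := SemidirectProduct.ext rfl h1
    have : h ^ 2 = 1 := by rw [e, ← map_pow, mod_sq, map_one]
    have := Nat.le_of_dvd (by norm_num) (hh ▸ orderOf_dvd_of_pow_eq_one this : 2 * s ∣ 2)
    have := hs.two_le
    omega
  haveI := Fact.mk hs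
  have hog : orderOf g = s := orderOf_eq_prime hgs hg1
  have hscard : s ∣ Nat.card (chevG2.group GF4) := hog ▸ orderOf_dvd_natCard g
  have hfix : act N g k.left = k.left := by
    have e : h * k = k * h := ((Commute.refl h).pow_right s).eq
    have e' := congrArg SemidirectProduct.left e
    rw [SemidirectProduct.mul_left, SemidirectProduct.mul_left, hkr, map_one, MulAut.one_apply,
      mul_comm k.left] at e'
    exact mul_left_cancel e'
  rcases (prime_dvd_card hs).1 hscard with e | e | e | e | e
  · exact absurd e.symm hrs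
  · rw [e]; exact exists_order_six
  · rw [e]; exact exists_order_ten
  · exact absurd (eq_one_of_fixed N (Or.inl (hog.trans e)) hfix) hkl1
  · exact absurd (eq_one_of_fixed N (Or.inr (hog.trans e)) hfix) hkl1

/-- The groups over two fields with four elements are isomorphic. -/
theorem exists_equiv {F : Type*} [Field F] [Fintype F] (hF : Fintype.card F = 4) :
    Nonempty (↥(chevG2.group F) ≃* ↥(chevG2.group GF4)) := by
  let e : F ≃+* GF4 := FiniteField.ringEquivOfCardEq (hF.trans (Unitary.GF4.card.trans (by norm_num)).symm)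
  let f : chevG2.group F →* chevG2.group GF4 :=
    ((ChevFixed.mapG chevG2 e.toRingHom).comp (chevG2.group F).subtype).codRestrict _ fun g =>
      ChevFixed.mapG_group_le Chev.DataG2.good e.toRingHom ⟨g.1, g.2, rfl⟩
  refine ⟨MulEquiv.ofBijective f ⟨fun a b h => Subtype.ext (ChevFixed.mapG_injective _ (congrArg Subtype.val h)),
    fun y => ?_⟩⟩
  refine ⟨⟨ChevFixed.mapG chevG2 e.symm.toRingHom y.1,
    ChevFixed.mapG_group_le Chev.DataG2.good e.symm.toRingHom ⟨y.1, y.2, rfl⟩⟩,
    Subtype.ext (Units.ext ?_)⟩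
  show ((ChevFixed.mapG chevG2 e.toRingHom (ChevFixed.mapG chevG2 e.symm.toRingHom y.1) :
    GL chevG2.Idx GF4) : Matrix chevG2.Idx chevG2.Idx GF4) = _
  rw [ChevFixed.coe_mapG, ChevFixed.coe_mapG, Matrix.map_map]
  ext i j
  simp

end Cfsg.Agent.G2Four
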